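import Mathlib

universe u
open CategoryTheory Limits MorphismProperty AlgebraicGeometry

namespace Groth.Agent.FpqcDesc

theorem quasiCompact_descends : DescendsAlong @QuasiCompact (@Surjective ⊓ @Flat ⊓ @QuasiCompact : MorphismProperty Scheme.{u}) := by
  apply IsZariskiLocalAtTarget.descendsAlong
  intro R X Y f g ⟨⟨hs, _⟩, hq⟩ hfst
  rw [quasiCompact_iff_compactSpace]
  have : CompactSpace X := by rwa [← quasiCompact_iff_compactSpace f]
  have : CompactSpace ↥(pullback f g) := QuasiCompact.compactSpace_of_compactSpace (pullback.fst f g)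
  exact (pullback.snd f g).surjective.compactSpace (pullback.snd f g).continuous

theorem quasiSeparated_descends : DescendsAlong @QuasiSeparated (@Surjective ⊓ @Flat ⊓ @QuasiCompact : MorphismProperty Scheme.{u}) := by
  have := quasiCompact_descends.{u}
  rw [quasiSeparated_eq_diagonal_is_quasiCompact]
  infer_instance

theorem isSeparated_iff_universallyClosed_diagonal {X Y : Scheme.{u}} (f : X ⟶ Y) :
    IsSeparated f ↔ UniversallyClosed (pullback.diagonal f) := by
  refine ⟨fun _ ↦ inferInstance, fun h ↦ ⟨?_⟩⟩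
  exact IsClosedImmersion.of_isPreimmersion _ (pullback.diagonal f).isClosedMap.isClosed_range

theorem isSeparated_descends : DescendsAlong @IsSeparated (@Surjective ⊓ @Flat ⊓ @QuasiCompact : MorphismProperty Scheme.{u}) := by
  have : (@IsSeparated : MorphismProperty Scheme.{u}) = diagonal @UniversallyClosed := by
    ext X Y f; exact isSeparated_iff_universallyClosed_diagonal f
  rw [this]; infer_instance

theorem isProper_descends : DescendsAlong @IsProper (@Surjective ⊓ @Flat ⊓ @QuasiCompact : MorphismProperty Scheme.{u}) := by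
  have := isSeparated_descends.{u}
  rw [isProper_eq]
  infer_instance

theorem mono_descends : DescendsAlong (monomorphisms Scheme.{u}) (@Surjective ⊓ @Flat ⊓ @QuasiCompact : MorphismProperty Scheme.{u}) := by
  rw [← MorphismProperty.diagonal_isomorphisms]
  infer_instance

theorem isClosedImmersion_descends : DescendsAlong @IsClosedImmersion (@Surjective ⊓ @Flat ⊓ @QuasiCompact : MorphismProperty Scheme.{u}) := by
  have := isProper_descends.{u}
  have := mono_descends.{u}
  rw [IsClosedImmersion.eq_proper_inf_monomorphisms]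
  infer_instance

theorem isAffineHom_descends : DescendsAlong @IsAffineHom (@Surjective ⊓ @Flat ⊓ @QuasiCompact : MorphismProperty Scheme.{u}) := by
  apply IsZariskiLocalAtTarget.descendsAlong_inf_quasiCompact
  · rw [inf_comm]
    exact inf_le_inf le_rfl (IsLocalIso.le_of_isZariskiLocalAtSource _)
  intro R S Y φ g h hfst
  obtain ⟨hs, hf⟩ := h
  have hQ : (@Surjective ⊓ @Flat ⊓ @QuasiCompact : MorphismProperty Scheme.{u}) (Spec.map φ) := ⟨⟨hs, hf⟩, inferInstance⟩
  have hqc : QuasiCompact g := quasiCompact_descends.of_isPullback (.of_hasPullback _ g) hQ inferInstance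
  have hqs : QuasiSeparated g := quasiSeparated_descends.of_isPullback (.of_hasPullback _ g) hQ inferInstance
  have : CompactSpace Y := by rwa [← quasiCompact_iff_compactSpace g]
  have : QuasiSeparatedSpace Y := (quasiSeparated_iff_quasiSeparatedSpace g).mp hqs
  have : IsAffine (pullback (Spec.map φ) g) := isAffine_of_isAffineHom (pullback.fst (Spec.map φ) g)
  have H : IsPullback (pullback.snd (Spec.map φ) g) (pullback.fst (Spec.map φ) g) g (Spec.map φ) :=
    (IsPullback.of_hasPullback _ _).flip
  have hpo := (isIso_pushoutSection_iff (US := ⊤) (UT := ⊤) (UX := ⊤) (UY := ⊤) H (by simp) (by simp) (by simp)).mp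
    (isIso_pushoutSection_of_isQuasiSeparated_of_flat_right H _ _ _ (isAffineOpen_top _) (isAffineOpen_top _)
      isCompact_univ isQuasiSeparated_univ)
  have hpo' : IsPushout g.appTop (Spec.map φ).appTop (pullback.snd (Spec.map φ) g).appTop (pullback.fst (Spec.map φ) g).appTop := by
    simpa [Scheme.Hom.appLE, Scheme.Hom.appTop] using hpo
  have hbot := (isPullback_SpecMap_of_isPushout _ _ _ _ hpo')
  have houter : IsPullback (pullback.snd (Spec.map φ) g) ((pullback.fst (Spec.map φ) g) ≫ (Spec S).toSpecΓ) (g ≫ (Spec R).toSpecΓ) (Spec.map (Spec.map φ).appTop) :=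
    H.of_iso (Iso.refl _) (Iso.refl _) (Spec S).isoSpec (Spec R).isoSpec (by simp) (by simp [Scheme.isoSpec_hom]) (by simp [Scheme.isoSpec_hom]) (by simp [Scheme.isoSpec_hom, Scheme.toSpecΓ_naturality])
  have htop : IsPullback (pullback.snd (Spec.map φ) g) (pullback (Spec.map φ) g).toSpecΓ Y.toSpecΓ (Spec.map (pullback.snd (Spec.map φ) g).appTop) := by
    refine IsPullback.of_bot ?_ (Scheme.toSpecΓ_naturality _) hbot
    rw [← Scheme.toSpecΓ_naturality, ← Scheme.toSpecΓ_naturality]
    exact houter
  have hQ' : (@Surjective ⊓ @Flat ⊓ @QuasiCompact : MorphismProperty Scheme.{u}) (Spec.map (pullback.snd (Spec.map φ) g).appTop) := by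
    refine MorphismProperty.of_isPullback hbot.flip ?_
    refine (MorphismProperty.arrow_mk_iso_iff _ (arrowIsoSpecΓOfIsAffine _)).mp hQ
  have : IsIso Y.toSpecΓ :=
    of_isPullback_of_descendsAlong (P := isomorphisms Scheme) htop.flip hQ'
      (inferInstanceAs (IsIso (pullback (Spec.map φ) g).toSpecΓ))
  have : IsAffine Y := ⟨this⟩
  exact (HasAffineProperty.iff_of_isAffine (P := @IsAffineHom)).mpr ‹IsAffine Y›

theorem isIntegralHom_descends : DescendsAlong @IsIntegralHom (@Surjective ⊓ @Flat ⊓ @QuasiCompact : MorphismProperty Scheme.{u}) := by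
  have := isAffineHom_descends.{u}
  rw [IsIntegralHom.eq_universallyClosed_inf_isAffineHom]
  infer_instance

theorem isFinite_descends : DescendsAlong @IsFinite (@Surjective ⊓ @Flat ⊓ @QuasiCompact : MorphismProperty Scheme.{u}) := by
  have := isAffineHom_descends.{u}
  have := isProper_descends.{u}
  rw [IsFinite.eq_isProper_inf_isAffineHom]
  infer_instance

end Groth.Agent.FpqcDesc

namespace Groth.Agent.FpqcDesc

open TensorProduct in
theorem quasiFinite_codescends :
    RingHom.CodescendsAlong (fun {R S} [CommRing R] [CommRing S] (f : R →+* S) ↦ f.QuasiFinite) RingHom.FaithfullyFlat := by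
  refine RingHom.CodescendsAlong.mk _ RingHom.QuasiFinite.respectsIso ?_
  intro R S T _ _ _ _ _ hS h
  rw [RingHom.quasiFinite_algebraMap] at h ⊢
  rw [RingHom.faithfullyFlat_algebraMap_iff] at hS
  refine ⟨fun P hP ↦ ?_⟩
  obtain ⟨⟨Q, hQp⟩, hQ⟩ := PrimeSpectrum.comap_surjective_of_faithfullyFlat (A := R) (B := S) ⟨P, hP⟩
  have hl : Q.LiesOver P := ⟨(congrArg PrimeSpectrum.asIdeal hQ).symm⟩
  let := Localization.AtPrime.algebraOfLiesOver P Q
  let e : Q.Fiber (S ⊗[R] T) ≃ₐ[Q.ResidueField] Q.ResidueField ⊗[P.ResidueField] (P.Fiber T) :=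
    (Algebra.TensorProduct.cancelBaseChange _ _ _ _ _).trans
      (Algebra.TensorProduct.cancelBaseChange _ _ _ _ _).symm
  have : Module.Finite Q.ResidueField (Q.ResidueField ⊗[P.ResidueField] (P.Fiber T)) :=
    .of_surjective e.toLinearMap e.surjective
  exact Module.Finite.of_finite_tensorProduct_of_faithfullyFlat Q.ResidueField

theorem locallyQuasiFinite_descends :
    DescendsAlong @LocallyQuasiFinite (@Surjective ⊓ @Flat ⊓ @QuasiCompact : MorphismProperty Scheme.{u}) :=
  HasRingHomProperty.descendsAlong_flat quasiFinite_codescends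

end Groth.Agent.FpqcDesc
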