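import Mathlib

universe u
open CategoryTheory Limits MorphismProperty AlgebraicGeometry TensorProduct

namespace Groth.Agent.FlatDescStalk

theorem flat_of_comp_faithfullyFlat (A B C : Type*) [CommRing A] [CommRing B] [CommRing C] [Algebra A B] [Algebra B C]
    [Algebra A C] [IsScalarTower A B C] [Module.FaithfullyFlat B C] [Module.Flat A C] : Module.Flat A B := by
  rw [Module.Flat.iff_lTensor_preserves_injective_linearMap]
  intro N P _ _ _ _ φ hφ
  let F : B ⊗[A] N →ₗ[B] B ⊗[A] P := AlgebraTensorModule.lTensor B B φ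
  suffices Function.Injective F from this
  rw [← Module.FaithfullyFlat.lTensor_injective_iff_injective B C]
  have h2 : Function.Injective (φ.lTensor C) := Module.Flat.lTensor_preserves_injective_linearMap φ hφ
  let eN := AlgebraTensorModule.cancelBaseChange A B B C N
  let eP := AlgebraTensorModule.cancelBaseChange A B B C P
  have : ∀ x, eP (F.lTensor C x) = φ.lTensor C (eN x) := by
    intro x
    induction x using TensorProduct.induction_on with
    | zero => simp
    | add x y hx hy => simp [hx, hy]
    | tmul c y =>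
      induction y using TensorProduct.induction_on with
      | zero => simp
      | add x y hx hy => simp only [LinearMap.lTensor_tmul] at hx hy; simp [tmul_add, hx, hy]
      | tmul b n => simp [eN, eP, F]
  intro x y hxy
  exact eN.injective (h2 (by rw [← this, ← this, hxy]))

theorem flat_comp_iff {A B C : Type*} [CommRing A] [CommRing B] [CommRing C] [IsLocalRing B] [IsLocalRing C]
    (f : A →+* B) (g : B →+* C) [IsLocalHom g] (hg : g.Flat) : (g.comp f).Flat ↔ f.Flat := by
  refine ⟨fun h ↦ ?_, fun h ↦ h.comp hg⟩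
  algebraize [f, g, g.comp f]
  have : IsLocalHom (algebraMap B C) := ‹_›
  have := Module.FaithfullyFlat.of_flat_of_isLocalHom (A := B) (B := C)
  exact flat_of_comp_faithfullyFlat A B C

theorem flat_stalkMap_comp_iff {X Y Z : Scheme.{u}} (f : X ⟶ Y) (g : Y ⟶ Z) (x : X)
    (hf : (f.stalkMap x).hom.Flat) :
    ((f ≫ g).stalkMap x).hom.Flat ↔ (g.stalkMap (f x)).hom.Flat := by
  have e : ((f ≫ g).stalkMap x).hom = (f.stalkMap x).hom.comp (g.stalkMap (f x)).hom := by
    rw [Scheme.Hom.stalkMap_comp]; rfl
  rw [e]
  exact flat_comp_iff _ _ hf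

theorem flat_of_comp {X' X Y : Scheme.{u}} (f : X' ⟶ X) (g : X ⟶ Y) [Flat f]
    [Surjective f] [Flat (f ≫ g)] : Flat g := by
  refine Flat.of_stalkMap _ fun x ↦ ?_
  obtain ⟨x', rfl⟩ := f.surjective x
  exact (flat_stalkMap_comp_iff f g x' (Flat.stalkMap f x')).mp (Flat.stalkMap (f ≫ g) x')

theorem stalkMap_injective {X Y : Scheme.{u}} (f : X ⟶ Y) (x : X) (h : (f.stalkMap x).hom.Flat) :
    Function.Injective (f.stalkMap x).hom := by
  algebraize [(f.stalkMap x).hom]
  have : IsLocalHom (algebraMap (Y.presheaf.stalk (f x)) (X.presheaf.stalk x)) := inferInstanceAs (IsLocalHom (f.stalkMap x).hom)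
  have := Module.FaithfullyFlat.of_flat_of_isLocalHom (A := Y.presheaf.stalk (f x)) (B := X.presheaf.stalk x)
  exact FaithfulSMul.algebraMap_injective _ _

theorem isReduced_of_flat_surjective {X Y : Scheme.{u}} (f : X ⟶ Y) [Flat f] [Surjective f] [IsReduced X] :
    IsReduced Y := by
  have : ∀ y : Y, _root_.IsReduced (Y.presheaf.stalk y) := fun y ↦ by
    obtain ⟨x, rfl⟩ := f.surjective y
    exact isReduced_of_injective _ (stalkMap_injective f x (Flat.stalkMap f x))
  exact isReduced_of_isReduced_stalk Y

end Groth.Agent.FlatDescStalk
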