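import Mathlib

universe u
open CategoryTheory Limits MorphismProperty AlgebraicGeometry TopologicalSpace

namespace Groth.Agent.NoethDesc

theorem isNoetherianRing_of_faithfullyFlat (A B : Type*) [CommRing A] [CommRing B] [Algebra A B]
    [Module.FaithfullyFlat A B] [IsNoetherianRing B] : IsNoetherianRing A := by
  rw [isNoetherianRing_iff, isNoetherian_iff']
  refine ⟨RelHomClass.wellFounded (?_ : ((· > ·) : Ideal A → Ideal A → Prop) →r ((· > ·) : Ideal B → Ideal B → Prop))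
    (IsWellFounded.wf)⟩
  refine ⟨Ideal.map (algebraMap A B), fun {I J} h ↦ lt_of_le_of_ne (Ideal.map_mono h.le) fun e ↦ h.ne ?_⟩
  rw [← Ideal.comap_map_eq_self_of_faithfullyFlat (B := B) J, e, Ideal.comap_map_eq_self_of_faithfullyFlat]

theorem isLocallyNoetherian_of_covering {X Y : Scheme.{u}} (f : X ⟶ Y) [Flat f] [IsLocallyNoetherian X]
    (H : ∀ V : Y.Opens, IsAffineOpen V → ∃ W : X.Opens, IsCompact (W : Set X) ∧ f '' (W : Set X) = V) :
    IsLocallyNoetherian Y := by
  refine ⟨fun ⟨V, hV⟩ ↦ ?_⟩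
  obtain ⟨W, hW, hWV⟩ := H V hV
  have : CompactSpace W.toScheme := isCompact_iff_compactSpace.mp hW
  obtain ⟨T, p, hp, hp', hT⟩ := W.toScheme.exists_hom_isAffine_of_isZariskiLocalAtSource @IsLocalIso
  have hle : Set.range (p ≫ W.ι ≫ f) ⊆ Set.range V.ι := by
    rw [Scheme.Opens.range_ι]
    rintro _ ⟨t, rfl⟩
    exact hWV.le ⟨_, (p t).2, rfl⟩
  let g : T ⟶ V.toScheme := IsOpenImmersion.lift V.ι (p ≫ W.ι ≫ f) hle
  have hg : g ≫ V.ι = p ≫ W.ι ≫ f := IsOpenImmersion.lift_fac _ _ _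
  have : Flat p := (IsLocalIso.le_of_isZariskiLocalAtSource @Flat) _ _ _ hp'
  have : LocallyOfFiniteType p := (IsLocalIso.le_of_isZariskiLocalAtSource @LocallyOfFiniteType) _ _ _ hp'
  have : IsLocallyNoetherian T := LocallyOfFiniteType.isLocallyNoetherian p
  have : Flat g := by
    refine MorphismProperty.of_postcomp (W := @Flat) (W' := @IsOpenImmersion) g V.ι inferInstance ?_
    rw [hg]; infer_instance
  have : Surjective g := by
    refine ⟨fun v ↦ ?_⟩
    obtain ⟨w, hw, hwv⟩ := hWV.ge v.2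
    obtain ⟨t, ht⟩ := p.surjective ⟨w, hw⟩
    refine ⟨t, V.ι.isOpenEmbedding.injective ?_⟩
    rw [← Scheme.Hom.comp_apply, hg, Scheme.Hom.comp_apply, Scheme.Hom.comp_apply, ht]
    exact hwv
  have : IsAffine V.toScheme := hV
  obtain ⟨h1, h2⟩ : Flat g ∧ Surjective g := ⟨inferInstance, inferInstance⟩
  have hff := Flat.flat_and_surjective_iff_faithfullyFlat_of_isAffine g |>.mp ⟨h1, h2⟩
  have : IsNoetherianRing Γ(T, ⊤) := IsLocallyNoetherian.component_noetherian ⟨⊤, isAffineOpen_top T⟩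
  algebraize [g.appTop.hom]
  have := isNoetherianRing_of_faithfullyFlat Γ(V.toScheme, ⊤) Γ(T, ⊤)
  exact isNoetherianRing_of_ringEquiv _ V.topIso.commRingCatIsoToRingEquiv

theorem of_quasiCompact {X Y : Scheme.{u}} (f : X ⟶ Y)
    [Flat f] [Surjective f] [QuasiCompact f] [IsLocallyNoetherian X] : IsLocallyNoetherian Y :=
  isLocallyNoetherian_of_covering f fun V hV ↦ ⟨f ⁻¹ᵁ V, f.isCompact_preimage hV.isCompact,
    Set.image_preimage_eq _ f.surjective⟩

theorem of_fppf {X Y : Scheme.{u}} (f : X ⟶ Y) [Surjective f] [Flat f] [LocallyOfFinitePresentation f]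
    [IsLocallyNoetherian X] : IsLocallyNoetherian Y :=
  isLocallyNoetherian_of_covering f fun V hV ↦ by
    obtain ⟨W, hW, e⟩ := f.isOpenMap.exists_opens_image_eq_of_prespectralSpace f.continuous
      (by rw [f.surjective.range_eq]; exact Set.subset_univ _) V.isOpen hV.isCompact
    exact ⟨W, hW, e⟩

end Groth.Agent.NoethDesc
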