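import Mathlib

universe u
open CategoryTheory Limits MorphismProperty AlgebraicGeometry TopologicalSpace

namespace Groth.Agent.SchTopo

theorem isSeparated_of_t2Space (X : Scheme.{u}) [T2Space X] : X.IsSeparated := by
  constructor
  refine (isSeparated_iff _).mpr ?_
  set f := terminal.from X
  refine IsClosedImmersion.of_isPreimmersion _ ?_
  refine closure_subset_iff_isClosed.mp fun z hz => ?_
  have h1 : IsClosed {z : ↥(pullback f f) | pullback.fst f f z = pullback.snd f f z} :=
    isClosed_eq (pullback.fst f f).continuous (pullback.snd f f).continuous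
  have h2 : pullback.fst f f z = pullback.snd f f z := by
    refine closure_minimal ?_ h1 hz
    rintro _ ⟨x, rfl⟩
    simp [← Scheme.Hom.comp_apply]
  obtain ⟨U, hU, hxU, -⟩ := exists_isAffineOpen_mem_and_subset (U := (⊤ : X.Opens)) (x := pullback.fst f f z) trivial
  have : IsAffine U.toScheme := hU
  let j := pullback.map (U.ι ≫ f) (U.ι ≫ f) f f U.ι U.ι (𝟙 _) (by simp) (by simp)
  have hj : Set.range j = pullback.fst f f ⁻¹' Set.range U.ι ∩ pullback.snd f f ⁻¹' Set.range U.ι :=
    Scheme.Pullback.range_map ..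
  have hz' : z ∈ Set.range j := by rw [hj]; simp [hxU, ← h2]
  obtain ⟨w, rfl⟩ := hz'
  have hsub : j ⁻¹' Set.range (pullback.diagonal f) ⊆ Set.range (pullback.diagonal (U.ι ≫ f)) := by
    rintro w' ⟨x, hx⟩
    have hx' : x ∈ U := by
      have : j w' ∈ Set.range j := ⟨w', rfl⟩
      rw [← hx, hj] at this
      simpa [← Scheme.Hom.comp_apply] using this.1
    refine ⟨⟨x, hx'⟩, j.isOpenEmbedding.injective ?_⟩
    have e : pullback.diagonal (U.ι ≫ f) ≫ j = U.ι ≫ pullback.diagonal f := by
      apply pullback.hom_ext <;> (simp only [j, pullback.map]; simp [pullback.lift_fst, pullback.lift_snd, pullback.lift_fst_assoc, pullback.lift_snd_assoc])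
    rw [← Scheme.Hom.comp_apply, e, hx.symm]; rfl
  have hc : IsClosed (Set.range (pullback.diagonal (U.ι ≫ f))) := (Scheme.Hom.isClosedEmbedding _).isClosed_range
  obtain ⟨x, hx⟩ := (closure_minimal hsub hc) (by rw [← j.isOpenEmbedding.isOpenMap.preimage_closure_eq_closure_preimage j.continuous]; exact hz)
  refine ⟨U.ι x, ?_⟩
  have e : pullback.diagonal (U.ι ≫ f) ≫ j = U.ι ≫ pullback.diagonal f := by
    apply pullback.hom_ext <;> (simp only [j, pullback.map]; simp [pullback.lift_fst, pullback.lift_snd, pullback.lift_fst_assoc, pullback.lift_snd_assoc])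
  rw [← hx, ← Scheme.Hom.comp_apply, ← Scheme.Hom.comp_apply, e]

theorem universallyOpen_of_surjective_closedImmersion {X Y : Scheme.{u}} (f : X ⟶ Y) [IsClosedImmersion f] [Surjective f] :
    UniversallyOpen f := by
  refine ⟨universally_mk' _ _ fun {T} g _ ↦ ?_⟩
  have hh : IsHomeomorph (pullback.fst g f) :=
    isHomeomorph_iff_isEmbedding_surjective.mpr ⟨(pullback.fst g f).isClosedEmbedding.isEmbedding, (pullback.fst g f).surjective⟩
  exact hh.isOpenMap

theorem universallyOpen_of_surjective_comp {X' X Y : Scheme.{u}} (g : X' ⟶ X) (f : X ⟶ Y) [Surjective g] [UniversallyOpen (g ≫ f)] :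
    UniversallyOpen f := by
  refine ⟨universally_mk' _ _ fun {T} t _ U hU ↦ ?_⟩
  let q := pullback.map t (g ≫ f) t f (𝟙 _) g (𝟙 _) (by simp) (by simp)
  have hq : Function.Surjective q := by
    intro z
    obtain ⟨x', hx'⟩ := g.surjective (pullback.snd t f z)
    have : pullback.fst t f z ∈ Set.range (𝟙 T : T ⟶ T) := ⟨_, rfl⟩
    have h2 : z ∈ Set.range q := by
      rw [Scheme.Pullback.range_map]
      exact ⟨this, x', hx'⟩
    exact h2
  have : pullback.fst t f '' U = pullback.fst t (g ≫ f) '' (q ⁻¹' U) := by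
    conv_lhs => rw [← Set.image_preimage_eq U hq]
    rw [Set.image_image]
    congr 1
    ext z
    have hqf : q ≫ pullback.fst t f = pullback.fst t (g ≫ f) := (pullback.lift_fst _ _ _).trans (Category.comp_id _)
    change pullback.fst t f (q z) = _
    rw [← Scheme.Hom.comp_apply, hqf]
  rw [this]
  exact (pullback.fst t (g ≫ f)).isOpenMap _ (hU.preimage q.continuous)

theorem universallyOpen_of_discrete {X Y : Scheme.{u}} (f : X ⟶ Y) [DiscreteTopology Y] :
    UniversallyOpen f := by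
  let U : Y → Y.Opens := fun y ↦ ⟨{y}, isOpen_discrete _⟩
  have hU : TopologicalSpace.IsOpenCover U := by
    refine TopologicalSpace.Opens.ext (Set.eq_univ_of_forall fun y => ?_)
    simp only [Opens.coe_iSup, Set.mem_iUnion]
    exact ⟨y, rfl⟩
  refine (IsZariskiLocalAtTarget.iff_of_iSup_eq_top (P := @UniversallyOpen) U hU).mpr fun y ↦ ?_
  have : Subsingleton (U y).toScheme := ⟨fun a b ↦ Subtype.ext (a.2.trans b.2.symm)⟩
  have : Nonempty (U y).toScheme := ⟨⟨y, rfl⟩⟩
  set Y₀ := (U y).toScheme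
  set f₀ := f ∣_ U y
  let a : Y₀ := ⟨y, rfl⟩
  let i := Y₀.fromSpecResidueField a
  have hr : Set.range i = Set.univ := by
    rw [Scheme.range_fromSpecResidueField]; exact Subsingleton.eq_univ_of_nonempty (Set.singleton_nonempty a)
  have : Surjective i := ⟨fun b => hr.ge (Set.mem_univ b)⟩
  have : IsClosedImmersion i := IsClosedImmersion.of_isPreimmersion _ (by rw [hr]; exact isClosed_univ)
  have := universallyOpen_of_surjective_closedImmersion i
  have : UniversallyOpen (pullback.fst f₀ i ≫ f₀) := by rw [pullback.condition]; infer_instance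
  exact universallyOpen_of_surjective_comp (pullback.fst f₀ i) f₀

theorem exists_generalization {R S : Type u} [CommRing R] [CommRing S] [Algebra R S]
    (q : PrimeSpectrum S) (p : PrimeSpectrum R)
    (h : ∀ g ∉ q.asIdeal, p ∈ PrimeSpectrum.comap (algebraMap R S) '' PrimeSpectrum.basicOpen g) :
    ∃ r : PrimeSpectrum S, r ⤳ q ∧ PrimeSpectrum.comap (algebraMap R S) r = p := by
  let ι : S →+* p.asIdeal.Fiber S := Algebra.TensorProduct.includeRight.toRingHom
  let M : Submonoid (p.asIdeal.Fiber S) := q.asIdeal.primeCompl.map ι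
  have h0 : (0 : p.asIdeal.Fiber S) ∉ M := by
    rintro ⟨g, hg, hg0⟩
    obtain ⟨r, hr, hrp⟩ := h g hg
    let P := PrimeSpectrum.preimageEquivFiber R S p ⟨r, hrp⟩
    have hP : (PrimeSpectrum.preimageEquivFiber R S p).symm P = ⟨r, hrp⟩ := Equiv.symm_apply_apply _ _
    apply hr
    rw [← congrArg (fun x => x.1.asIdeal) hP]
    change ι g ∈ P.asIdeal
    rw [hg0]
    exact zero_mem _
  obtain ⟨P, hP, -, hPM⟩ := Ideal.exists_le_prime_disjoint (⊥ : Ideal (p.asIdeal.Fiber S)) M
    (Set.disjoint_left.mpr fun x hx hxM => h0 (by rw [(Ideal.mem_bot.mp hx)] at hxM; exact hxM))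
  let r := (PrimeSpectrum.preimageEquivFiber R S p).symm ⟨P, hP⟩
  refine ⟨r.1, ?_, r.2⟩
  rw [← PrimeSpectrum.le_iff_specializes]
  intro s hs
  by_contra hsq
  exact Set.disjoint_left.mp hPM hs ⟨s, hsq, rfl⟩

theorem generalizingMap_of_isOpenMap {X Y : Scheme.{u}} (f : X ⟶ Y) (hf : IsOpenMap f.base) :
    GeneralizingMap f.base := by
  intro x y' hy
  obtain ⟨V, hV, hxV, -⟩ := exists_isAffineOpen_mem_and_subset (U := (⊤ : Y.Opens)) (x := f x) trivial
  obtain ⟨U, hU, hxU, hUV⟩ := exists_isAffineOpen_mem_and_subset (U := f ⁻¹ᵁ V) (x := x) hxV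
  have hyV : y' ∈ V := hy.mem_open V.2 hxV
  algebraize [(f.appLE V U hUV).hom]
  have key : ∀ z, hV.fromSpec (PrimeSpectrum.comap (f.appLE V U hUV).hom z) = f (hU.fromSpec z) := by
    intro z
    rw [← Scheme.Hom.comp_apply, ← IsAffineOpen.SpecMap_appLE_fromSpec f hV hU hUV]
    rfl
  obtain ⟨q, hq⟩ : x ∈ Set.range hU.fromSpec := by rw [hU.range_fromSpec]; exact hxU
  obtain ⟨p, hp⟩ : y' ∈ Set.range hV.fromSpec := by rw [hV.range_fromSpec]; exact hyV
  obtain ⟨r, hr, hrp⟩ := exists_generalization (R := Γ(Y, V)) (S := Γ(X, U)) q p (fun g hg => by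
    have ho : IsOpen (f '' (hU.fromSpec '' ((PrimeSpectrum.basicOpen g : Opens (PrimeSpectrum Γ(X, U))) : Set (PrimeSpectrum Γ(X, U))))) :=
      hf _ (hU.fromSpec.isOpenEmbedding.isOpenMap _ (by exact (PrimeSpectrum.basicOpen g).isOpen))
    have : y' ∈ f '' (hU.fromSpec '' ((PrimeSpectrum.basicOpen g : Opens (PrimeSpectrum Γ(X, U))) : Set (PrimeSpectrum Γ(X, U)))) :=
      hy.mem_open ho ⟨x, ⟨q, hg, hq⟩, rfl⟩
    obtain ⟨_, ⟨z, hz, rfl⟩, hzy⟩ := this
    refine ⟨z, hz, hV.fromSpec.isOpenEmbedding.injective ?_⟩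
    exact (key z).trans (hzy.trans hp.symm))
  refine ⟨hU.fromSpec r, hq ▸ hr.map hU.fromSpec.continuous, ?_⟩
  rw [← hp, ← hrp]
  exact (key r).symm

end Groth.Agent.SchTopo
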