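import Mathlib
import Groth.Agent.FpqcDesc.Topo

universe u
open CategoryTheory Limits MorphismProperty AlgebraicGeometry TopologicalSpace

namespace Groth.Agent.ZeroDimSch

theorem isClosed_singleton_of_dim {X : Type*} [TopologicalSpace X] [T0Space X]
    (h : topologicalKrullDim X ≤ 0) (x : X) : IsClosed ({x} : Set X) := by
  rw [← closure_subset_iff_isClosed]
  intro y hy
  by_contra hne
  let a : IrreducibleCloseds X := ⟨closure {y}, isIrreducible_singleton.closure, isClosed_closure⟩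
  let b : IrreducibleCloseds X := ⟨closure {x}, isIrreducible_singleton.closure, isClosed_closure⟩
  have hab : a < b := by
    refine lt_of_le_of_ne (closure_minimal (Set.singleton_subset_iff.mpr hy) isClosed_closure) fun e ↦ hne ?_
    have : closure ({y} : Set X) = closure {x} := congrArg IrreducibleCloseds.carrier e
    exact (inseparable_iff_closure_eq.mpr this).eq
  exact not_lt.mpr h (Order.krullDim_pos_iff.mpr ⟨a, b, hab⟩)

theorem t2Space_of_t1_primeSpectrum (R : Type*) [CommRing R] [T1Space (PrimeSpectrum R)] :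
    T2Space (PrimeSpectrum R) := by
  have hmax : ∀ p : PrimeSpectrum R, p.asIdeal.IsMaximal := fun p ↦
    (PrimeSpectrum.isClosed_singleton_iff_isMaximal p).mp isClosed_singleton
  refine ⟨fun x y hxy ↦ ?_⟩
  obtain ⟨g, hgx, hgy⟩ : ∃ g ∈ x.asIdeal, g ∉ y.asIdeal :=
    SetLike.not_le_iff_exists.mp fun h ↦ hxy (PrimeSpectrum.ext ((hmax x).eq_of_le y.2.ne_top h))
  obtain ⟨s, hs, n, hn⟩ : ∃ s ∉ x.asIdeal, ∃ n, s * g ^ n = 0 := by
    by_contra! hne
    obtain ⟨P, hP, -, hPM⟩ := Ideal.exists_le_prime_disjoint (⊥ : Ideal R) (x.asIdeal.primeCompl ⊔ Submonoid.powers g) (Set.disjoint_left.mpr fun a ha haM ↦ by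
      obtain ⟨s, hs, _, ⟨n, rfl⟩, rfl⟩ := Submonoid.mem_sup.mp haM
      exact hne s hs n (Ideal.mem_bot.mp ha))
    have hle : P ≤ x.asIdeal := fun a ha ↦ by
      by_contra hax
      exact Set.disjoint_left.mp hPM ha (Submonoid.mem_sup_left hax)
    have := (hmax ⟨P, hP⟩).eq_of_le x.2.ne_top hle
    exact Set.disjoint_left.mp hPM (show g ∈ P from (show P = x.asIdeal from this).symm ▸ hgx) (Submonoid.mem_sup_right ⟨1, pow_one g⟩)
  refine ⟨PrimeSpectrum.basicOpen s, PrimeSpectrum.basicOpen g, (PrimeSpectrum.basicOpen s).isOpen,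
    (PrimeSpectrum.basicOpen g).isOpen, hs, hgy, Set.disjoint_left.mpr fun p hp1 hp2 ↦ ?_⟩
  exact p.2.mul_notMem hp1 (fun h ↦ hp2 (p.2.mem_of_pow_mem n h)) (by rw [hn]; exact zero_mem _)

variable {X : Scheme.{u}} [QuasiSeparatedSpace X] (h : topologicalKrullDim X ≤ 0)

include h in
omit [QuasiSeparatedSpace X] in
theorem t2_affine {U : X.Opens} (hU : IsAffineOpen U) : T2Space U := by
  have : T1Space (PrimeSpectrum Γ(X, U)) :=
    ⟨fun p ↦ isClosed_singleton_of_dim ((hU.fromSpec.isOpenEmbedding.isInducing.topologicalKrullDim_le).trans h) p⟩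
  have := t2Space_of_t1_primeSpectrum Γ(X, U)
  have : T2Space (Spec Γ(X, U)) := this
  exact hU.isoSpec.hom.homeomorph.isEmbedding.t2Space

include h in
theorem isAffineOpen_union {U V : X.Opens} (hU : IsAffineOpen U) (hV : IsAffineOpen V) : IsAffineOpen (U ⊔ V) := by
  have := t2_affine h hV
  have : T2Space ↥(V : Set X) := this
  have hc : IsCompact ((U : Set X) ∩ V) :=
    QuasiSeparatedSpace.inter_isCompact _ _ U.isOpen hU.isCompact V.isOpen hV.isCompact
  have hc' : IsCompact (((↑) : V → X) ⁻¹' U) := by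
    rw [Subtype.isCompact_iff, Set.image_preimage_eq_inter_range, Subtype.range_coe]; exact hc
  have : IsClosed (((↑) : V → X) ⁻¹' (U : Set X)) := hc'.isClosed
  let W : X.Opens := ⟨(V : Set X) \ U, by
    have := V.isOpen.isOpenEmbedding_subtypeVal.isOpenMap _ this.isOpen_compl
    have e : ((↑) : V → X) '' (((↑) : V → X) ⁻¹' (U : Set X))ᶜ = (V : Set X) \ U := by
      ext z; exact ⟨fun ⟨a, ha, ha'⟩ ↦ ha' ▸ ⟨a.2, ha⟩, fun hz ↦ ⟨⟨z, hz.1⟩, hz.2, rfl⟩⟩
    rw [← e]; exact this⟩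
  have hW : IsAffineOpen W := by
    have : IsAffine V.toScheme := hV
    have hcl : IsClosed ((V.ι ⁻¹ᵁ W : V.toScheme.Opens) : Set V.toScheme) := by
      have : ((V.ι ⁻¹ᵁ W : V.toScheme.Opens) : Set V.toScheme) = ((↑) : V → X) ⁻¹' (U : Set X)ᶜ := by
        ext z; exact ⟨fun hz ↦ hz.2, fun hz ↦ ⟨z.2, hz⟩⟩
      rw [this]
      exact ((U.isOpen.preimage continuous_subtype_val).isClosed_compl :)
    have : IsClosedImmersion (V.ι ⁻¹ᵁ W).ι := IsClosedImmersion.of_isPreimmersion _ (by rw [Scheme.Opens.range_ι]; exact hcl)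
    have : IsAffineOpen (V.ι ⁻¹ᵁ W) := isAffine_of_isAffineHom (V.ι ⁻¹ᵁ W).ι
    have hh := this.image_of_isOpenImmersion V.ι
    rwa [Scheme.Hom.image_preimage_eq_opensRange_inf, Scheme.Opens.opensRange_ι, inf_eq_right.mpr (show W ≤ V from fun z hz ↦ hz.1)] at hh
  have : U ⊔ V = U ⊔ W := by
    ext z; simp [W]
  rw [this]
  exact hU.sup_of_disjoint hW (disjoint_iff.mpr (Opens.ext (by ext z; simp +contextual [W])))

include h in
theorem isAffineOpen_of_isCompact {U : X.Opens} (hU : IsCompact (U : Set X)) : IsAffineOpen U := by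
  refine AlgebraicGeometry.compact_open_induction_on (P := IsAffineOpen) U hU (isAffineOpen_bot X) ?_
  exact fun S _ W ih ↦ isAffineOpen_union h ih W.2

include h in
theorem t2Space : T2Space X := by
  refine ⟨fun x y hxy ↦ ?_⟩
  obtain ⟨U, hU, hxU, -⟩ := exists_isAffineOpen_mem_and_subset (U := (⊤ : X.Opens)) (x := x) trivial
  obtain ⟨V, hV, hyV, -⟩ := exists_isAffineOpen_mem_and_subset (U := (⊤ : X.Opens)) (x := y) trivial
  have := t2_affine h (isAffineOpen_union h hU hV)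
  have : T2Space ↥((U ⊔ V : X.Opens) : Set X) := this
  obtain ⟨A, B, hA, hB, ha, hb, hAB⟩ := t2_separation (x := (⟨x, Or.inl hxU⟩ : ↥((U ⊔ V : X.Opens) : Set X))) (y := ⟨y, Or.inr hyV⟩) (by simp [hxy])
  exact ⟨_, _, (U ⊔ V).isOpen.isOpenEmbedding_subtypeVal.isOpenMap _ hA, (U ⊔ V).isOpen.isOpenEmbedding_subtypeVal.isOpenMap _ hB,
    ⟨_, ha, rfl⟩, ⟨_, hb, rfl⟩, Set.disjoint_image_of_injective Subtype.val_injective hAB⟩

include h in
theorem isSeparated : X.IsSeparated :=
  have := t2Space h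
  Groth.Agent.SchTopo.isSeparated_of_t2Space X

include h in
theorem totallyDisconnected : TotallyDisconnectedSpace X := by
  have := t2Space h
  have : TotallySeparatedSpace X := by
    refine totallySeparatedSpace_iff_exists_isClopen.mpr fun x y hxy ↦ ?_
    obtain ⟨U, hU, hxU, hUs⟩ := exists_isAffineOpen_mem_and_subset (U := (⟨{y}ᶜ, isOpen_compl_singleton⟩ : X.Opens)) (x := x) hxy
    exact ⟨U, ⟨hU.isCompact.isClosed, U.isOpen⟩, hxU, fun hy ↦ hUs hy rfl⟩
  infer_instance

end Groth.Agent.ZeroDimSch
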