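import Mathlib
import Groth.Agent.FpqcDesc.Basic

universe u
open CategoryTheory Limits MorphismProperty AlgebraicGeometry TopologicalSpace

namespace Groth.Agent.FpqcMisc

theorem isSeparated_of_separated_nbhd {X S : Scheme.{u}} (f : X ⟶ S)
    (H : ∀ z ∈ closure (Set.range (pullback.diagonal f)), ∃ U : X.Opens, IsSeparated (U.ι ≫ f) ∧
      pullback.fst f f z ∈ U ∧ pullback.snd f f z ∈ U) :
    IsSeparated f := by
  refine (isSeparated_iff _).mpr (IsClosedImmersion.of_isPreimmersion _ ?_)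
  refine closure_subset_iff_isClosed.mp fun z hz => ?_
  obtain ⟨U, hU, hU1, hU2⟩ := H z hz
  let j := pullback.map (U.ι ≫ f) (U.ι ≫ f) f f U.ι U.ι (𝟙 _) (by simp) (by simp)
  have hj : Set.range j = pullback.fst f f ⁻¹' Set.range U.ι ∩ pullback.snd f f ⁻¹' Set.range U.ι :=
    Scheme.Pullback.range_map ..
  have hz' : z ∈ Set.range j := by rw [hj]; simp [hU1, hU2]
  obtain ⟨w, rfl⟩ := hz'
  have e : pullback.diagonal (U.ι ≫ f) ≫ j = U.ι ≫ pullback.diagonal f := by
    apply pullback.hom_ext <;> (simp only [j, pullback.map]; simp [pullback.lift_fst, pullback.lift_snd])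
  have hsub : j ⁻¹' Set.range (pullback.diagonal f) ⊆ Set.range (pullback.diagonal (U.ι ≫ f)) := by
    rintro w' ⟨x, hx⟩
    have hx' : x ∈ U := by
      have : j w' ∈ Set.range j := ⟨w', rfl⟩
      rw [← hx, hj] at this
      simpa [← Scheme.Hom.comp_apply] using this.1
    refine ⟨⟨x, hx'⟩, j.isOpenEmbedding.injective ?_⟩
    rw [← Scheme.Hom.comp_apply, e, hx.symm]; rfl
  have hc : IsClosed (Set.range (pullback.diagonal (U.ι ≫ f))) := (Scheme.Hom.isClosedEmbedding _).isClosed_range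
  obtain ⟨x, hx⟩ := (closure_minimal hsub hc) (by rw [← j.isOpenEmbedding.isOpenMap.preimage_closure_eq_closure_preimage j.continuous]; exact hz)
  exact ⟨U.ι x, by rw [← hx, ← Scheme.Hom.comp_apply, ← Scheme.Hom.comp_apply, e]⟩

theorem dense_separated (X : Scheme.{u}) [CompactSpace X] :
    ∃ V : X.Opens, Dense (V : Set X) ∧ (V : Scheme.{u}).IsSeparated := by
  let 𝒰 := X.affineCover.finiteSubcover
  classical
  have : Fintype 𝒰.I₀ := Fintype.ofFinite _
  obtain ⟨n, ⟨e⟩⟩ : ∃ n, Nonempty (𝒰.I₀ ≃ Fin n) := ⟨_, ⟨Fintype.equivFin _⟩⟩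
  let U : Fin n → X.Opens := fun i ↦ (𝒰.f (e.symm i)).opensRange
  have hU : ∀ i, IsAffineOpen (U i) := fun i ↦ by
    have : IsAffine (𝒰.X (e.symm i)) := inferInstanceAs (IsAffine (X.affineCover.X _))
    exact isAffineOpen_opensRange _
  let V : Fin n → X.Opens := fun i ↦ ⟨(U i : Set X) \ ⋃ j ∈ Set.Iio i, closure (U j : Set X),
    (U i).isOpen.sdiff ((Set.finite_Iio i).isClosed_biUnion fun _ _ ↦ isClosed_closure)⟩
  have hdisj : ∀ i j, ∀ x ∈ V i, x ∈ V j → i = j := by
    intro i j x hi hj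
    rcases lt_trichotomy i j with h | h | h
    · exact absurd (Set.mem_biUnion (x := i) h (subset_closure hi.1)) hj.2
    · exact h
    · exact absurd (Set.mem_biUnion (x := j) h (subset_closure hj.1)) hi.2
  refine ⟨⨆ i, V i, ?_, ?_⟩
  · have key : ∀ i : Fin n, (U i : Set X) ⊆ closure (⋃ j, (V j : Set X)) := by
      intro i
      induction i using WellFoundedLT.induction with
      | _ i ih =>
        intro x hx
        by_cases hh : x ∈ ⋃ j ∈ Set.Iio i, closure (U j : Set X)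
        · simp only [Set.mem_iUnion] at hh
          obtain ⟨j, hj, hxj⟩ := hh
          exact closure_minimal (ih j hj) isClosed_closure hxj
        · exact subset_closure (Set.mem_iUnion_of_mem i ⟨hx, hh⟩)
    intro x
    obtain ⟨i, y, hy⟩ := 𝒰.exists_eq x
    obtain ⟨i, rfl⟩ := e.symm.surjective i
    have := key i (show x ∈ U i from ⟨y, hy⟩)
    simpa [Opens.coe_iSup] using this
  · constructor
    set W : X.Opens := ⨆ i, V i
    set f := terminal.from W.toScheme
    refine isSeparated_of_separated_nbhd f fun z hz ↦ ?_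
    obtain ⟨i, hi⟩ := Opens.mem_iSup.mp (pullback.fst f f z).2
    obtain ⟨j, hj⟩ := Opens.mem_iSup.mp (pullback.snd f f z).2
    obtain rfl : i = j := by
      by_contra hij
      obtain ⟨_, ⟨hw1, hw2⟩, ⟨w, rfl⟩⟩ := mem_closure_iff.mp hz
        ((pullback.fst f f ⁻¹ᵁ (W.ι ⁻¹ᵁ V i)) ⊓ (pullback.snd f f ⁻¹ᵁ (W.ι ⁻¹ᵁ V j)) : Opens _) (Opens.isOpen _) ⟨hi, hj⟩
      have e1 : pullback.fst f f (pullback.diagonal f w) = w := by rw [← Scheme.Hom.comp_apply, pullback.diagonal_fst]; rfl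
      have e2 : pullback.snd f f (pullback.diagonal f w) = w := by rw [← Scheme.Hom.comp_apply, pullback.diagonal_snd]; rfl
      exact hij (hdisj i j (W.ι w) (e1 ▸ hw1) (e2 ▸ hw2))
    refine ⟨W.ι ⁻¹ᵁ V i, ?_, hi, hj⟩
    have hVU : V i ≤ U i := fun x hx ↦ hx.1
    have : IsAffine (U i).toScheme := hU i
    have : Scheme.IsSeparated (W.ι ⁻¹ᵁ V i).toScheme := by
      have hle : W.ι ''ᵁ (W.ι ⁻¹ᵁ V i) ≤ U i := fun x ⟨w, hw, hwx⟩ ↦ hVU (hwx ▸ hw)
      constructor
      rw [← terminal.comp_from ((W.ι.isoImage (W.ι ⁻¹ᵁ V i)).hom ≫ X.homOfLE hle)]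
      infer_instance
    rw [show (W.ι ⁻¹ᵁ V i).ι ≫ f = terminal.from _ from terminal.hom_ext _ _]
    exact this.1

theorem isSeparated_iff_mapDesc {X Y S : Scheme.{u}} (f : X ⟶ Y) (q : Y ⟶ S)
    [Flat f] [Surjective f] [QuasiCompact f] :
    IsSeparated q ↔ IsClosedImmersion (pullback.mapDesc f f q) := by
  have hsq := (pullback_map_diagonal_isPullback f f q).flip
  refine ⟨fun h ↦ MorphismProperty.of_isPullback hsq.flip inferInstance, fun h ↦ (isSeparated_iff _).mpr ?_⟩
  refine Groth.Agent.FpqcDesc.isClosedImmersion_descends.of_isPullback hsq ?_ h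
  exact ⟨⟨MorphismProperty.pullbackMap (P := @Surjective) inferInstance inferInstance rfl rfl,
    MorphismProperty.pullbackMap (P := @Flat) inferInstance inferInstance rfl rfl⟩,
    MorphismProperty.pullbackMap (P := @QuasiCompact) inferInstance inferInstance rfl rfl⟩

theorem isOpen_of_closed_generalization {Y : Scheme.{u}} [IsLocallyNoetherian Y]
    (W : Set Y) (hW : IsClosed W) (hgen : StableUnderGeneralization W) : IsOpen W := by
  refine isOpen_iff_forall_mem_open.mpr fun x hx ↦ ?_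
  obtain ⟨U, hU, hxU, -⟩ := exists_isAffineOpen_mem_and_subset (U := (⊤ : Y.Opens)) (x := x) trivial
  have : IsAffine U.toScheme := hU
  have : IsNoetherian U.toScheme := {}
  set W' : Set U.toScheme := U.ι ⁻¹' W
  have hgen' : StableUnderGeneralization W' := fun a b hab ha ↦ hgen (hab.map U.ι.continuous) ha
  have hfin : (irreducibleComponents U.toScheme).Finite := NoetherianSpace.finite_irreducibleComponents
  have e : W'ᶜ = ⋃ C ∈ {C ∈ irreducibleComponents U.toScheme | Disjoint C W'}, C := by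
    ext a
    refine ⟨fun ha ↦ ?_, ?_⟩
    · let C := irreducibleComponent a
      have hC : C ∈ irreducibleComponents U.toScheme := irreducibleComponent_mem_irreducibleComponents a
      obtain ⟨η, hη⟩ := QuasiSober.sober (hC.1) isClosed_irreducibleComponent
      have haη : η ⤳ a := hη.specializes mem_irreducibleComponent
      have hη' : η ∉ W' := fun h ↦ ha ((hW.preimage U.ι.continuous).stableUnderSpecialization haη h)
      refine Set.mem_biUnion (x := C) ⟨hC, Set.disjoint_left.mpr fun b hb hbW ↦ hη' (hgen' (hη.specializes hb) hbW)⟩ mem_irreducibleComponent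
    · simp only [Set.mem_iUnion]
      rintro ⟨C, ⟨_, hd⟩, haC⟩
      exact Set.disjoint_left.mp hd haC
  have hopen : IsOpen W' := by
    rw [← isClosed_compl_iff, e]
    exact (hfin.subset (fun C h ↦ h.1)).isClosed_biUnion fun C h ↦ isClosed_of_mem_irreducibleComponents C h.1
  exact ⟨U.ι '' W', by rintro _ ⟨a, ha, rfl⟩; exact ha, U.ι.isOpenEmbedding.isOpenMap _ hopen, ⟨⟨x, hxU⟩, hx, rfl⟩⟩

theorem proper_finite_locus {X Y : Scheme.{u}} (f : X ⟶ Y) [IsProper f] :
    ∃ U : Y.Opens, (U : Set Y) = {y : Y | (f.base ⁻¹' {y}).Finite} ∧ IsFinite (f ∣_ U) := by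
  let U : Y.Opens := sSup {V | IsFinite (f ∣_ V)}
  refine ⟨U, ?_, ?_⟩
  · ext y
    simp only [U, SetLike.mem_coe, Opens.mem_sSup, Set.mem_setOf_eq]
    refine ⟨fun ⟨V, hV, hyV⟩ ↦ ?_, fun h ↦ ?_⟩
    · refine ((f ∣_ V).finite_preimage_singleton ⟨y, hyV⟩ |>.image (f ⁻¹ᵁ V).ι).subset ?_
      intro x hx
      have hxV : x ∈ f ⁻¹ᵁ V := by rw [Scheme.Hom.mem_preimage, show f x = y from hx]; exact hyV
      refine ⟨⟨x, hxV⟩, ?_, rfl⟩
      apply (Scheme.Opens.ι V).isOpenEmbedding.injective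
      rw [← Scheme.Hom.comp_apply, morphismRestrict_ι]
      exact hx
    · obtain ⟨V, hy, hV⟩ := exists_isFinite_morphismRestrict_of_finite_preimage_singleton f y h
      exact ⟨V, hV, hy⟩
  · refine (IsZariskiLocalAtTarget.iff_of_iSup_eq_top (P := @IsFinite) (fun V : {V | IsFinite (f ∣_ V)} ↦ U.ι ⁻¹ᵁ (V : Y.Opens)) ?_).mpr fun V ↦ ?_
    · refine Opens.ext (Set.eq_univ_of_forall fun y ↦ ?_)
      obtain ⟨V, hV, hy⟩ := Opens.mem_sSup.mp y.2
      simp only [Opens.coe_iSup, Set.mem_iUnion]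
      exact ⟨⟨V, hV⟩, hy⟩
    · have hle : (V : Y.Opens) ≤ U := le_sSup V.2
      refine (MorphismProperty.arrow_mk_iso_iff _ (morphismRestrictRestrict f U (U.ι ⁻¹ᵁ (V : Y.Opens)))).mpr ?_
      rw [show U.ι ''ᵁ (U.ι ⁻¹ᵁ (V : Y.Opens)) = (V : Y.Opens) by
        rw [Scheme.Hom.image_preimage_eq_opensRange_inf, Scheme.Opens.opensRange_ι, inf_eq_right.mpr hle]]
      exact V.2

end Groth.Agent.FpqcMisc
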